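import Cfsg.Agent.ShultGrossH65.Height

/-!
An operator of prime order without fixed vectors, normalising a `q`-group, `q` odd: its action on
the group is invisible on the space. No hypothesis on the fixed points in the group.
-/

set_option autoImplicit false
set_option maxHeartbeats 800000

open scoped commutatorElement

namespace CfsgLib.SolvSignalizer

open CfsgLib.ShultGrossH65

universe u v w

theorem apply_eq_aux {k : Type w} [Field k] [IsAlgClosed k] {p q : ℕ} [hp : Fact p.Prime]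
    [hq : Fact q.Prime] (hq2 : q ≠ 2) (hpq : p ≠ q) (hpk : (p : k) ≠ 0) (hqk : (q : k) ≠ 0)
    {V : Type v} [AddCommGroup V] [Module k V] [FiniteDimensional k V] (T : Module.End k V) (n : ℕ) (hn : n = 0)
    (hT : T ^ p ^ (n + 1) = 1) (hTfix : ∀ v, T v = v → v = 0) :
    ∀ (N : ℕ) (S : Type u) [Group S] [Finite S] (σ : MulAut S) (L : S →* Module.End k V),
      Nat.card S = N → IsPGroup q S → σ ^ p ^ (n + 1) = 1 →
      (∀ s, T * L s = L (σ s) * T) → ∀ s, L ((σ ^ p ^ n) s) = L s := by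
  intro N
  induction N using Nat.strong_induction_on with
  | _ N IH =>
  intro S _ _ σ L hN hS hσ hTL
  classical
  set P := p ^ (n + 1) with hP
  have hP0 : 0 < P := pow_pos hp.out.pos _
  set y := σ ^ p ^ n with hy
  have hLinv : ∀ s, L s * L s⁻¹ = 1 := fun s => by rw [← map_mul, mul_inv_cancel, map_one]
  have hLinv' : ∀ s, L s⁻¹ * L s = 1 := fun s => by rw [← map_mul, inv_mul_cancel, map_one]
  have hSk : ∀ (H : Type u) [Group H] [Finite H], IsPGroup q H → (Nat.card H : k) ≠ 0 := by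
    intro H _ _ hH
    obtain ⟨a, ha⟩ := IsPGroup.iff_card.1 hH
    rw [ha, Nat.cast_pow]
    exact pow_ne_zero _ hqk
  have hTinv : T * T ^ (P - 1) = 1 := by rw [← pow_succ', Nat.sub_add_cancel hP0, hT]
  have hyσ : ∀ (i : ℕ) (s : S), (σ ^ i) (y s) = y ((σ ^ i) s) := fun i s => by
    rw [hy, ← MulAut.mul_apply, ← MulAut.mul_apply, ← pow_add, ← pow_add, add_comm]
  -- (A) the kernel
  let K : Subgroup S :=
    { carrier := {s | L s = 1}
      one_mem' := map_one L
      mul_mem' := fun {a b} (ha : L a = 1) (hb : L b = 1) => show L (a * b) = 1 by rw [map_mul, ha, hb, one_mul]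
      inv_mem' := fun {a} (ha : L a = 1) => show L a⁻¹ = 1 by
        have h := hLinv' a
        rwa [ha, mul_one] at h }
  by_cases hK : K ≠ ⊥
  · haveI : K.Normal := ⟨fun a (ha : L a = 1) g => show L (g * a * g⁻¹) = 1 by
      rw [map_mul, map_mul, ha, mul_one, hLinv]⟩
    have hKσ' : ∀ a ∈ K, σ a ∈ K := fun a (ha : L a = 1) => show L (σ a) = 1 by
      calc L (σ a) = L (σ a) * (T * T ^ (P - 1)) := by rw [hTinv, mul_one]
        _ = T * L a * T ^ (P - 1) := by rw [← mul_assoc, hTL]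
        _ = 1 := by rw [ha, mul_one, hTinv]
    have hKσ : K.map σ.toMonoidHom = K := by
      refine Subgroup.eq_of_le_of_card_ge ?_ (le_of_eq
        (Subgroup.card_map_of_injective (f := σ.toMonoidHom) σ.injective).symm)
      rintro _ ⟨a, ha, rfl⟩
      exact hKσ' a ha
    let σK : MulAut (S ⧸ K) := QuotientGroup.congr K K σ hKσ
    have hσK : ∀ (i : ℕ) (s : S), (σK ^ i) (s : S ⧸ K) = (((σ ^ i) s : S) : S ⧸ K) := by
      intro i
      induction i with
      | zero => simp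
      | succ i ih =>
        intro s
        rw [pow_succ', pow_succ', MulAut.mul_apply, MulAut.mul_apply, ih]
        rfl
    have hlt : Nat.card (S ⧸ K) < N := by
      have h1 : 1 < Nat.card K := Finite.one_lt_card_iff_nontrivial.2 (K.nontrivial_iff_ne_bot.2 hK)
      rw [← hN, Subgroup.card_eq_card_quotient_mul_card_subgroup K]
      exact lt_mul_of_one_lt_right Nat.card_pos h1
    have h := IH _ hlt (S ⧸ K) σK (QuotientGroup.lift K L fun a ha => ha) rfl (hS.to_quotient K) ?_ ?_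
    · intro s
      have h1 := h (s : S ⧸ K)
      rw [hσK] at h1
      exact h1
    · refine MulEquiv.ext fun x => ?_
      obtain ⟨s, rfl⟩ := QuotientGroup.mk_surjective x
      rw [hσK, hσ]
      rfl
    · intro x
      obtain ⟨s, rfl⟩ := QuotientGroup.mk_surjective x
      exact hTL s
  rw [not_not] at hK
  have hinj : Function.Injective L := by
    intro a b hab
    have h1 : a⁻¹ * b ∈ K := show L (a⁻¹ * b) = 1 by rw [map_mul, ← hab, hLinv']
    rw [hK, Subgroup.mem_bot, inv_mul_eq_one] at h1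
    exact h1
  suffices hy1 : y = 1 by intro s; rw [hy1, MulAut.one_apply]
  by_contra hy1
  -- (B) invariant subgroups
  have hfix : ∀ S₁ : Subgroup S, S₁ ≠ ⊤ → (∀ s ∈ S₁, σ s ∈ S₁) → ∀ s ∈ S₁, y s = s := by
    intro S₁ hS₁ hinv s hs
    have hlt : Nat.card S₁ < N :=
      hN ▸ lt_of_le_of_ne (Subgroup.card_le_card_group S₁) fun h => hS₁ (Subgroup.eq_top_of_card_eq _ h)
    have hσ₁ : S₁.map (σ : S ≃* S).toMonoidHom = S₁ := Subgroup.eq_of_le_of_card_ge
      (by rintro _ ⟨a, ha, rfl⟩; exact hinv a ha)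
      (Subgroup.card_map_of_injective (f := (σ : S ≃* S).toMonoidHom) σ.injective).ge
    let σ₁ : MulAut S₁ := ((σ : S ≃* S).subgroupMap S₁).trans (MulEquiv.subgroupCongr hσ₁)
    have hσ₁i : ∀ (i : ℕ) (x : S₁), (((σ₁ ^ i) x : S₁) : S) = (σ ^ i) (x : S) := by
      intro i x
      induction i with
      | zero => rfl
      | succ i ih => rw [pow_succ', MulAut.mul_apply, pow_succ', MulAut.mul_apply, ← ih]; rfl
    have h := IH _ hlt S₁ σ₁ (L.comp S₁.subtype) rfl (hS.to_subgroup S₁)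
      (MulEquiv.ext fun x => Subtype.ext (by rw [hσ₁i, hσ]; rfl))
      (fun x => hTL x) ⟨s, hs⟩
    refine hinj ?_
    rw [MonoidHom.comp_apply, MonoidHom.comp_apply, Subgroup.subtype_apply, hσ₁i] at h
    exact h
  haveI : Nontrivial S := by
    by_contra h
    rw [not_nontrivial_iff_subsingleton] at h
    exact hy1 (MulEquiv.ext fun s => Subsingleton.elim _ _)
  have hyp : y ^ p = 1 := by rw [hy, ← pow_mul, ← pow_succ, hσ]
  -- elements with `τ s = c s`, `c` fixed, are fixed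
  have hcoprime : ∀ (τ : MulAut S) (b : ℕ) (s c : S), τ ^ (p ^ b) = 1 → τ s = c * s → τ c = c → τ s = s := by
    intro τ b s c hτ hs hc
    have h1 : ∀ i : ℕ, (τ ^ i) s = c ^ i * s := by
      intro i
      induction i with
      | zero => simp
      | succ i ih => rw [pow_succ', MulAut.mul_apply, ih, map_mul, map_pow, hc, hs, ← mul_assoc, ← pow_succ]
    have h2 := h1 (p ^ b)
    rw [hτ, MulAut.one_apply, right_eq_mul] at h2
    obtain ⟨a, ha⟩ := hS c
    have h3 : orderOf c = 1 := Nat.eq_one_of_dvd_coprimes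
      (Nat.Coprime.pow b a ((Nat.coprime_primes hp.out hq.out).2 hpq))
      (orderOf_dvd_of_pow_eq_one h2) (orderOf_dvd_of_pow_eq_one ha)
    rw [hs, orderOf_eq_one_iff.1 h3, one_mul]
  set Z := Subgroup.center S with hZ
  have hcen : ∀ z ∈ Z, ∀ t : S, t * z = z * t := fun z hz t => Subgroup.mem_center_iff.1 hz t
  have hZσ : ∀ (i : ℕ), ∀ z ∈ Z, (σ ^ i) z ∈ Z := by
    intro i z hz
    refine Subgroup.mem_center_iff.2 fun t => ?_
    obtain ⟨t, rfl⟩ := (σ ^ i).surjective t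
    rw [← map_mul, ← map_mul, hcen z hz t]
  letI : CommGroup Z := { (inferInstance : Group Z) with
    mul_comm := fun a b => Subtype.ext (hcen b b.2 a) }
  have hZk : (Nat.card Z : k) ≠ 0 := hSk Z (hS.to_subgroup Z)
  -- eigen vectors separate the centre
  have heig : ∀ a b : Z, a ≠ b → ∃ (χ : Z →* kˣ) (x : V), x ≠ 0 ∧ (∀ z : Z, L (z : S) x = (χ z : k) • x) ∧
      χ a ≠ χ b := by
    intro a b hab
    by_contra hcon
    push Not at hcon
    refine hab (Subtype.ext (hinj (sub_eq_zero.1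
      (CfsgLib.FpfAut.eq_zero_of_eigen hZk (L.comp Z.subtype) (L (a : S) - L (b : S)) fun χ x hx => ?_))))
    rcases eq_or_ne x 0 with rfl | hx0
    · rw [map_zero]
    · have hx' : ∀ z : Z, L (z : S) x = (χ z : k) • x := hx
      rw [LinearMap.sub_apply, hx' a, hx' b, hcon χ x hx0 hx', sub_self]
  let Wt : (Z →* kˣ) → Submodule k V := fun χ =>
    { carrier := {x | ∀ z : Z, L (z : S) x = (χ z : k) • x}
      add_mem' := fun {a b} ha hb z => by rw [map_add, ha z, hb z, smul_add]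
      zero_mem' := fun z => by rw [map_zero, smul_zero]
      smul_mem' := fun c x hx z => by rw [map_smul, hx z, smul_comm] }
  -- the abelian case
  by_cases hnc : Z = ⊤
  · obtain ⟨s₀, hs₀⟩ : ∃ s, y s ≠ s := by
      by_contra h
      push Not at h
      exact hy1 (MulEquiv.ext h)
    obtain ⟨χ, x, hx0, hx, hχ⟩ := heig ⟨y s₀, hnc ▸ Subgroup.mem_top _⟩ ⟨s₀, hnc ▸ Subgroup.mem_top _⟩
      fun h => hs₀ (congrArg Subtype.val h)
    obtain ⟨j, hj, hFx, -, -⟩ := orbit_reduce hp.out σ hσ L T hT hTfix hTL Z hZσ hZk χ (Wt χ)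
      (fun _ => Iff.rfl) ⟨x, hx, hx0⟩
    exact hχ ((hFx (p ^ n)).2 (pow_dvd_pow p (by omega)) ⟨s₀, hnc ▸ Subgroup.mem_top _⟩)
  have hyZ : ∀ z ∈ Z, y z = z := hfix Z hnc fun z hz => by simpa using hZσ 1 z hz
  -- `[S, y] = S`
  set K₀ := Subgroup.closure (Set.range fun s => y s * s⁻¹) with hK₀
  have hK₀top : K₀ = ⊤ := by
    by_contra hne
    have hinv : ∀ a ∈ K₀, σ a ∈ K₀ := by
      intro a ha
      have : K₀.map σ.toMonoidHom ≤ K₀ := by
        rw [hK₀, MonoidHom.map_closure, Subgroup.closure_le]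
        rintro _ ⟨_, ⟨s, rfl⟩, rfl⟩
        refine Subgroup.subset_closure ⟨σ s, ?_⟩
        show y (σ s) * (σ s)⁻¹ = σ (y s * s⁻¹)
        rw [map_mul, map_inv, show y (σ s) = σ (y s) by simpa using (hyσ 1 s).symm]
      exact this ⟨a, ha, rfl⟩
    refine hy1 (MulEquiv.ext fun s => ?_)
    exact hcoprime y 1 s (y s * s⁻¹) (by rwa [pow_one]) (by rw [inv_mul_cancel_right])
      (hfix K₀ hne hinv _ (Subgroup.subset_closure ⟨s, rfl⟩))
  have hΦinv : ∀ a ∈ frattini S, σ a ∈ frattini S := by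
    intro a ha
    exact (Subgroup.characteristic_iff_map_eq.mp frattini_characteristic σ).le ⟨a, ha, rfl⟩
  have hΦC : frattini S ≤ Z := by
    intro f hf
    refine Subgroup.mem_center_iff.2 fun s => ?_
    suffices h : K₀ ≤ Subgroup.centralizer {f} by
      exact Subgroup.mem_centralizer_singleton_iff.1 (h (hK₀top ▸ Subgroup.mem_top s))
    rw [hK₀, Subgroup.closure_le]
    rintro _ ⟨t, rfl⟩
    rw [SetLike.mem_coe, Subgroup.mem_centralizer_singleton_iff]
    have hn' : t⁻¹ * f * t⁻¹⁻¹ ∈ frattini S := (inferInstance : (frattini S).Normal).conj_mem f hf t⁻¹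
    have h1 : y (t⁻¹ * f * t) = t⁻¹ * f * t := hfix _ CfsgLib.PGroup.frattini_ne_top hΦinv _ (by
      rwa [inv_inv] at hn')
    have h2 : y f = f := hfix _ CfsgLib.PGroup.frattini_ne_top hΦinv f hf
    rw [map_mul, map_mul, map_inv, h2] at h1
    calc y t * t⁻¹ * f = y t * (t⁻¹ * f * t) * t⁻¹ := by group
      _ = y t * ((y t)⁻¹ * f * y t) * t⁻¹ := by rw [h1]
      _ = f * (y t * t⁻¹) := by group
  have hcomm : ∀ s t : S, ⁅s, t⁆ ∈ Z := fun s t => hΦC (CfsgLib.PGroup.commutatorElement_mem_frattini hS s t)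
  have hCy : ∀ s, y s = s → s ∈ Z := by
    intro s hs
    refine Subgroup.mem_center_iff.2 fun t => ?_
    suffices h : K₀ ≤ Subgroup.centralizer {s} by
      exact Subgroup.mem_centralizer_singleton_iff.1 (h (hK₀top ▸ Subgroup.mem_top t))
    rw [hK₀, Subgroup.closure_le]
    rintro _ ⟨t, rfl⟩
    rw [SetLike.mem_coe, Subgroup.mem_centralizer_singleton_iff]
    have h1 : y ⁅s, t⁻¹⁆ = ⁅s, t⁻¹⁆ := hyZ _ (hcomm s t⁻¹)
    rw [map_commutatorElement, hs, map_inv] at h1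
    simp only [commutatorElement_def, inv_inv] at h1
    have h3 : (y t)⁻¹ * s⁻¹ * y t = t⁻¹ * s⁻¹ * t := mul_left_cancel (a := s) (by
      simpa [mul_assoc] using h1)
    calc y t * t⁻¹ * s = y t * (t⁻¹ * s⁻¹ * t)⁻¹ * t⁻¹ := by group
      _ = y t * ((y t)⁻¹ * s⁻¹ * y t)⁻¹ * t⁻¹ := by rw [h3]
      _ = _ := by group
  -- regularity
  have hregK : ∀ (H : Subgroup S), Z ≤ H → ∀ i, 0 < i → i < P → (∀ x ∈ H, (σ ^ i) x ∈ H) →
      ∀ s : S, s⁻¹ * (σ ^ i) s ∈ H → s ∈ H := by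
    intro H hZH i hi0 hiP hinv s hs
    obtain ⟨c, hc⟩ : ∃ c, σ ^ (i * c) = y := by
      obtain ⟨l, hl, hg⟩ := (Nat.dvd_prime_pow hp.out).1 (Nat.gcd_dvd_right i P)
      have hln : l < n + 1 := by
        have h1 : Nat.gcd i P ≤ i := Nat.gcd_le_left _ hi0
        rw [hg] at h1
        exact (Nat.pow_lt_pow_iff_right hp.out.one_lt).1 (lt_of_le_of_lt h1 hiP)
      have hlt : Nat.gcd i P < P := by
        rw [hg]
        exact Nat.pow_lt_pow_right hp.out.one_lt hln
      obtain ⟨m, -, hm⟩ := Nat.exists_mul_mod_eq_gcd (n := i) (k := P) hlt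
      refine ⟨m * p ^ (n - l), ?_⟩
      have h3 : σ ^ (i * m) = σ ^ Nat.gcd i P := by
        rw [← Nat.mod_add_div (i * m) P, pow_add, pow_mul σ P, hσ, one_pow, mul_one, hm]
      rw [← mul_assoc, pow_mul, h3, ← pow_mul, hg, ← pow_add, Nat.add_sub_cancel' (show l ≤ n by omega)]
    have hiter : ∀ c : ℕ, (∀ x ∈ H, (σ ^ (i * c)) x ∈ H) ∧ s⁻¹ * (σ ^ (i * c)) s ∈ H := by
      intro c
      induction c with
      | zero => simp
      | succ c ih =>
        rw [Nat.mul_succ, add_comm, pow_add]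
        refine ⟨fun x hx => hinv _ (ih.1 x hx), ?_⟩
        rw [MulAut.mul_apply, show s⁻¹ * (σ ^ i) ((σ ^ (i * c)) s) =
          s⁻¹ * (σ ^ i) s * (σ ^ i) (s⁻¹ * (σ ^ (i * c)) s) by rw [map_mul, map_inv]; group]
        exact mul_mem hs (hinv _ ih.2)
    have hy' := hiter c
    rw [hc] at hy'
    have hyZm : Z.map (y : S ≃* S).toMonoidHom = Z := Subgroup.eq_of_le_of_card_ge
      (by rintro _ ⟨z, hz, rfl⟩; exact (hyZ z hz).symm ▸ hz)
      (Subgroup.card_map_of_injective (f := (y : S ≃* S).toMonoidHom) y.injective).ge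
    let yq : MulAut (S ⧸ Z) := QuotientGroup.congr Z Z y hyZm
    have hyqfpf : ∀ v : S ⧸ Z, yq v = v → v = 1 := by
      intro v hv
      induction v using QuotientGroup.induction_on with
      | _ r =>
        rw [show yq (r : S ⧸ Z) = ((y r : S) : S ⧸ Z) from rfl, eq_comm, QuotientGroup.eq] at hv
        refine (QuotientGroup.eq_one_iff r).2 (hCy r (hcoprime y 1 r (r⁻¹ * y r) (by rwa [pow_one]) ?_
          (hyZ _ hv)))
        rw [← hcen _ hv r, mul_inv_cancel_left]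
    have h4 := mem_of_fpf yq hyqfpf (N := H.map (QuotientGroup.mk' Z))
      (by rintro _ ⟨x, hx, rfl⟩; exact ⟨y x, hy'.1 x hx, rfl⟩) (s := (s : S ⧸ Z)) ⟨_, hy'.2, rfl⟩
    have h5 : s ∈ (H.map (QuotientGroup.mk' Z)).comap (QuotientGroup.mk' Z) := h4
    rwa [Subgroup.comap_map_eq_self (by rwa [QuotientGroup.ker_mk'])] at h5
  -- a weight moving a commutator
  obtain ⟨a₀, b₀, hab⟩ : ∃ a b : S, ⁅a, b⁆ ≠ 1 := by
    by_contra h
    push Not at h
    exact hnc (eq_top_iff.2 fun s _ => Subgroup.mem_center_iff.2 fun t =>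
      commutatorElement_eq_one_iff_mul_comm.1 (h t s))
  obtain ⟨χ, x₀, hx₀, hxχ, hχab⟩ := heig ⟨⁅a₀, b₀⁆, hcomm a₀ b₀⟩ 1 fun h => hab (congrArg Subtype.val h)
  rw [map_one] at hχab
  set W := Wt χ with hW
  obtain ⟨j, hj, hFx, hWT, hWfix⟩ := orbit_reduce hp.out σ hσ L T hT hTfix hTL Z hZσ hZk χ W
    (fun _ => Iff.rfl) ⟨x₀, hxχ, hx₀⟩
  set i₀ := p ^ j with hi₀
  have hi₀pos : 0 < i₀ := pow_pos hp.out.pos j
  have hWL : ∀ (s : S), ∀ x ∈ W, L s x ∈ W := by
    intro s x hx z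
    rw [← Module.End.mul_apply, ← map_mul, ← hcen z z.2 s, map_mul, Module.End.mul_apply, hx z, map_smul]
  have hWsinj : ∀ a b : kˣ, (a : k) • x₀ = (b : k) • x₀ → a = b := fun a b h =>
    Units.ext (smul_left_injective k hx₀ h)
  -- the radical
  have hswap : ∀ t r : S, χ ⟨⁅r, t⁆, hcomm r t⟩ = (χ ⟨⁅t, r⁆, hcomm t r⟩)⁻¹ := fun t r => by
    rw [← map_inv]
    exact congrArg χ (Subtype.ext (commutatorElement_inv t r).symm)
  have hbmul : ∀ t a b : S, χ ⟨⁅t, a * b⁆, hcomm t (a * b)⟩ = χ ⟨⁅t, a⁆, hcomm t a⟩ * χ ⟨⁅t, b⁆, hcomm t b⟩ :=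
    fun t a b => by
    rw [← map_mul]
    refine congrArg χ (Subtype.ext ?_)
    show ⁅t, a * b⁆ = ⁅t, a⁆ * ⁅t, b⁆
    calc ⁅t, a * b⁆ = ⁅t, a⁆ * (a * ⁅t, b⁆ * a⁻¹) := by simp only [commutatorElement_def]; group
      _ = _ := by rw [hcen _ (hcomm t b) a, mul_inv_cancel_right]
  let R₀ : Subgroup S :=
    { carrier := {s | ∀ t, χ ⟨⁅t, s⁆, hcomm t s⟩ = 1}
      one_mem' := fun t => (congrArg χ (Subtype.ext (commutatorElement_one_right t))).trans (map_one χ)
      mul_mem' := fun {a b} (ha : ∀ t, χ ⟨⁅t, a⁆, hcomm t a⟩ = 1) (hb : ∀ t, χ ⟨⁅t, b⁆, hcomm t b⟩ = 1) t => by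
        rw [hbmul, ha t, hb t, one_mul]
      inv_mem' := fun {a} (ha : ∀ t, χ ⟨⁅t, a⁆, hcomm t a⟩ = 1) t => by
        have h1 := hbmul t a a⁻¹
        rw [ha t, one_mul] at h1
        rw [← h1]
        exact (congrArg χ (Subtype.ext (show ⁅t, a * a⁻¹⁆ = 1 by
          rw [mul_inv_cancel, commutatorElement_one_right]))).trans (map_one χ) }
  have hZR : Z ≤ R₀ := fun z hz t => by
    refine (congrArg χ (Subtype.ext ?_)).trans (map_one χ)
    exact commutatorElement_eq_one_iff_mul_comm.2 (hcen z hz t)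
  haveI : R₀.Normal := ⟨fun r hr g => by
    rw [show g * r * g⁻¹ = ⁅g, r⁆ * r by simp [commutatorElement_def, mul_assoc]]
    exact mul_mem (hZR (hcomm g r)) hr⟩
  have hR₀σ : ∀ i, i₀ ∣ i → ∀ r ∈ R₀, (σ ^ i) r ∈ R₀ := by
    intro i hi r (hr : ∀ t, χ ⟨⁅t, r⁆, hcomm t r⟩ = 1) t
    obtain ⟨t, rfl⟩ := (σ ^ i).surjective t
    rw [← hr t, ← (hFx i).2 hi ⟨⁅t, r⁆, hcomm t r⟩]
    exact congrArg χ (Subtype.ext (map_commutatorElement (σ ^ i) t r).symm)
  have hR₀top : R₀ ≠ ⊤ := fun h => hχab ((h ▸ Subgroup.mem_top b₀ : b₀ ∈ R₀) a₀)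
  -- the radical is abelian on the weight space
  set σ' := σ ^ i₀ with hσ'
  set T' := (T ^ i₀).restrict hWT with hT'
  set L' := subRep L W hWL with hL'
  have hTTW : ∀ (i : ℕ) (x : W), (((T' ^ i) x : W) : V) = (T ^ (i₀ * i)) x := fun i x => by
    rw [hT', restrict_iter, pow_mul]
  have hRcomm : ∀ r ∈ R₀, ∀ s : S, L' r * L' s = L' s * L' r := by
    intro r hr s
    have h1 : χ ⟨⁅r, s⁆, hcomm r s⟩ = 1 := by rw [hswap, hr s, inv_one]
    refine LinearMap.ext fun x => Subtype.ext ?_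
    show (L r * L s) (x : V) = (L s * L r) (x : V)
    rw [← map_mul, ← map_mul, show r * s = ⁅r, s⁆ * (s * r) by simp [commutatorElement_def, mul_assoc],
      map_mul L ⁅r, s⁆, Module.End.mul_apply]
    have hmem : L (s * r) (x : V) ∈ W := hWL _ _ x.2
    rw [hmem ⟨⁅r, s⁆, hcomm r s⟩, h1, Units.val_one, one_smul]
  let f : R₀ →* (Module.End k W)ˣ := (L'.comp R₀.subtype).toHomUnits
  letI : CommGroup f.range := { (inferInstance : Group f.range) with
    mul_comm := by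
      rintro ⟨_, a, rfl⟩ ⟨_, b, rfl⟩
      exact Subtype.ext (Units.ext (hRcomm a a.2 b)) }
  haveI : Finite f.range := Finite.of_surjective _ f.rangeRestrict_surjective
  have hfk : (Nat.card f.range : k) ≠ 0 := by
    obtain ⟨a, ha⟩ := IsPGroup.iff_card.1 ((hS.to_subgroup R₀).of_surjective _ f.rangeRestrict_surjective)
    rw [ha, Nat.cast_pow]
    exact pow_ne_zero _ hqk
  obtain ⟨ψ, w₁, hw₁, hψ⟩ : ∃ (ψ : R₀ →* kˣ) (x : W), x ≠ 0 ∧ ∀ r : R₀, L' (r : S) x = (ψ r : k) • x := by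
    by_contra hcon
    push Not at hcon
    have h1 := CfsgLib.FpfAut.eq_zero_of_eigen hfk ((Units.coeHom _).comp f.range.subtype)
      (1 : Module.End k W) fun ξ x hx => by
        by_contra h
        obtain ⟨r, hr⟩ := hcon (ξ.comp f.rangeRestrict) x h
        exact hr (hx (f.rangeRestrict r))
    refine hx₀ (congrArg Subtype.val (LinearMap.congr_fun h1 (⟨x₀, hxχ⟩ : W)))
  let W' : Submodule k W :=
    { carrier := {x | ∀ r : R₀, L' (r : S) x = (ψ r : k) • x}
      add_mem' := fun {a b} ha hb z => by rw [map_add, ha z, hb z, smul_add]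
      zero_mem' := fun z => by rw [map_zero, smul_zero]
      smul_mem' := fun c x hx z => by rw [map_smul, hx z, smul_comm] }
  have hW'L : ∀ (s : S), ∀ x ∈ W', L' s x ∈ W' := by
    intro s x hx r
    rw [← Module.End.mul_apply, hRcomm r r.2 s, Module.End.mul_apply, hx r, map_smul]
  have hext : ∀ (z : S) (hz : z ∈ Z), ψ ⟨z, hZR hz⟩ = χ ⟨z, hz⟩ := fun z hz => by
    refine Units.ext (smul_left_injective k (show (w₁ : V) ≠ 0 from fun h => hw₁ (Subtype.ext h)) ?_)
    show (ψ ⟨z, hZR hz⟩ : k) • (w₁ : V) = (χ ⟨z, hz⟩ : k) • (w₁ : V)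
    rw [← Submodule.coe_smul, ← hψ ⟨z, hZR hz⟩, subRep_coe]
    exact w₁.2 ⟨z, hz⟩
  have hnj : i₀ * p ^ (n + 1 - j) = P := by rw [hi₀, ← pow_add, Nat.add_sub_cancel' hj.le]
  have hσ'P : σ' ^ p ^ (n + 1 - j) = 1 := by rw [hσ', ← pow_mul, hnj, hσ]
  have hT'P : T' ^ p ^ (n + 1 - j) = 1 := by
    refine LinearMap.ext fun x => Subtype.ext ?_
    rw [hTTW, hnj, hT]
    rfl
  have hT'fix : ∀ x : W, T' x = x → x = 0 := fun x hx =>
    Subtype.ext (hWfix x x.2 (congrArg Subtype.val hx))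
  have hT'L : ∀ s, T' * L' s = L' (σ' s) * T' := fun s =>
    LinearMap.ext fun x => Subtype.ext (LinearMap.congr_fun (twist_iter hTL i₀ s) x.1)
  have hR₀σ' : ∀ (i : ℕ), ∀ r ∈ R₀, (σ' ^ i) r ∈ R₀ := fun i r hr => by
    rw [hσ', ← pow_mul]
    exact hR₀σ _ (dvd_mul_right _ _) r hr
  obtain ⟨j₂, hj₂, -, hW'T, hW'fix⟩ := orbit_reduce hp.out σ' hσ'P L' T' hT'P hT'fix hT'L R₀ hR₀σ'
    (hSk R₀ (hS.to_subgroup R₀)) ψ W' (fun _ => Iff.rfl) ⟨w₁, hψ, hw₁⟩
  set e := n + 1 - j - j₂ with he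
  set i₂ := p ^ j₂ with hi₂
  have hne2 : i₂ * p ^ e = p ^ (n + 1 - j) := by rw [hi₂, he, ← pow_add, Nat.add_sub_cancel' hj₂.le]
  set T'' := (T' ^ i₂).restrict hW'T with hT''
  set L'' := subRep L' W' hW'L with hL''
  haveI : Nontrivial W' := ⟨⟨⟨w₁, hψ⟩, 0, fun h => hw₁ (congrArg Subtype.val h)⟩⟩
  obtain ⟨hle, hdvd, a, ha⟩ := card_quotient_le_of_regular (k := k) (E := W') (P := p ^ e)
    (pow_pos hp.out.pos e) (by rw [Nat.cast_pow]; exact pow_ne_zero _ hpk) (hSk S hS) (σ' ^ i₂)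
    (by rw [← pow_mul, hne2, hσ'P]) R₀ (hR₀σ' i₂) (fun s t => hZR (hcomm s t))
    (fun i hi0 hilt s hs => by
      refine hregK R₀ hZR (i₀ * (i₂ * i)) (mul_pos hi₀pos (mul_pos (pow_pos hp.out.pos j₂) hi0)) ?_ (hR₀σ _ (dvd_mul_right _ _)) s ?_
      · rw [← hnj]
        refine (Nat.mul_lt_mul_left hi₀pos).2 ?_
        rw [← hne2]
        exact (Nat.mul_lt_mul_left (pow_pos hp.out.pos j₂)).2 hilt
      · rwa [pow_mul, pow_mul])
    L'' T'' (LinearMap.ext fun x => Subtype.ext (by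
      rw [hT'', restrict_iter, ← pow_mul, hne2, hT'P]; rfl))
    (fun x hx => Subtype.ext (hW'fix x x.2 (congrArg Subtype.val hx)))
    (fun s => LinearMap.ext fun x => Subtype.ext (LinearMap.congr_fun (twist_iter hT'L i₂ s) x.1))
    ψ (fun r => LinearMap.ext fun x => Subtype.ext (x.2 r))
    (fun s hs => by
      by_contra hcon
      push Not at hcon
      refine hs fun t => ?_
      rw [← hext _ (hcomm t s)]
      exact hcon t)  -- the order of the quotient
  have hqpos := hq.out.one_lt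
  obtain ⟨b, hb⟩ := IsPGroup.iff_card.1 (hS.to_quotient R₀)
  obtain ⟨m, -, hm⟩ := (Nat.dvd_prime_pow hq.out).1 (show a ∣ q ^ b from hb ▸ ha ▸ dvd_pow_self a two_ne_zero)
  have hN1 : 1 < Nat.card (S ⧸ R₀) := by
    rw [← Subgroup.index_eq_card]
    exact Subgroup.one_lt_index_of_ne_top hR₀top
  have ha1 : 1 < a := by
    by_contra h
    interval_cases a <;> simp [ha] at hN1
  have he1 : e ≤ 1 := by omega
  have hle' : p ^ e ≤ p := (Nat.pow_le_pow_right hp.out.pos he1).trans (pow_one p).le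
  rw [ha] at hle hdvd
  have h1 : a ≤ p ^ e - 1 := (Nat.pow_le_pow_iff_left two_ne_zero).1 hle
  have he : p ^ e = p := by
    have : e = 1 := by
      rcases Nat.eq_zero_or_pos e with h | h
      · rw [h, pow_zero] at h1; omega
      · omega
    rw [this, pow_one]
  rw [he] at h1 hdvd
  have h2 : p ∣ (a + 1) * (a - 1) := by
    rwa [← Nat.sq_sub_sq, one_pow]
  rcases (hp.out.dvd_mul).1 h2 with h | h
  · have h3 : a + 1 = p := le_antisymm (by omega) (Nat.le_of_dvd (by omega) h)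
    have hodd : Odd a := hm ▸ (hq.out.odd_of_ne_two hq2).pow
    obtain ⟨c, hc⟩ := hodd
    have h4 : p = 2 := ((Nat.prime_dvd_prime_iff_eq Nat.prime_two hp.out).1 ⟨c + 1, by omega⟩).symm
    omega
  · have := Nat.le_of_dvd (by omega) h
    omega

/-- An operator of prime order `p` without fixed vectors sees no twist of a `q`-group, `q` odd. -/
theorem apply_eq_of_fixedPointFree {k : Type w} [Field k] [IsAlgClosed k] {p q : ℕ} [Fact p.Prime]
    [Fact q.Prime] (hq2 : q ≠ 2) (hpq : p ≠ q) (hpk : (p : k) ≠ 0) (hqk : (q : k) ≠ 0)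
    {V : Type v} [AddCommGroup V] [Module k V] [FiniteDimensional k V] (T : Module.End k V)
    (hT : T ^ p = 1) (hTfix : ∀ v, T v = v → v = 0) {S : Type u} [Group S] [Finite S] (σ : MulAut S)
    (L : S →* Module.End k V) (hS : IsPGroup q S) (hσ : σ ^ p = 1)
    (hTL : ∀ s, T * L s = L (σ s) * T) (s : S) : L (σ s) = L s := by
  simpa using apply_eq_aux hq2 hpq hpk hqk T 0 rfl (by simpa using hT) hTfix _ S σ L rfl hS
    (by simpa using hσ) hTL s

end CfsgLib.SolvSignalizer
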